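import Mathlib
import Cfsg.Agent.TcChain36.Fi23.Y232.Tab

set_option autoImplicit false
set_option maxRecDepth 100000
set_option linter.all false

namespace Cfsg.Agent.TcChain36.Fi23.Y232

open Cfsg.Spor Cfsg.Agent.Lib.TcFacts Cfsg.Agent.Lib.TcBits Cfsg.Agent.Lib.TcPres

theorem b0 : Block F al 0 256 250 :=
  block_of_check (k := 8) rfl (by decide +kernel)

theorem b1 : Block F al 256 512 165 :=
  block_of_check (k := 8) rfl (by decide +kernel)

theorem b2 : Block F al 512 768 106 :=
  block_of_check (k := 8) rfl (by decide +kernel)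

theorem b3 : Block F al 768 1024 62 :=
  block_of_check (k := 8) rfl (by decide +kernel)

theorem b4 : Block F al 1024 1280 49 :=
  block_of_check (k := 8) rfl (by decide +kernel)

theorem b5 : Block F al 1280 1536 31 :=
  block_of_check (k := 8) rfl (by decide +kernel)

theorem b6 : Block F al 1536 1792 21 :=
  block_of_check (k := 8) rfl (by decide +kernel)

theorem b7 : Block F al 1792 2048 12 :=
  block_of_check (k := 8) rfl (by decide +kernel)

theorem b8 : Block F al 2048 2304 12 :=
  block_of_check (k := 8) rfl (by decide +kernel)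

theorem b9 : Block F al 2304 2560 7 :=
  block_of_check (k := 8) rfl (by decide +kernel)

theorem b10 : Block F al 2560 2816 1 :=
  block_of_check (k := 8) rfl (by decide +kernel)

theorem b11 : Block F al 2816 3072 6 :=
  block_of_check (k := 8) rfl (by decide +kernel)

theorem b12 : Block F al 3072 3328 2 :=
  block_of_check (k := 8) rfl (by decide +kernel)

theorem b13 : Block F al 3328 3584 0 :=
  block_of_check (k := 8) rfl (by decide +kernel)

theorem b14 : Block F al 3584 3840 1 :=
  block_of_check (k := 8) rfl (by decide +kernel)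

theorem b15 : Block F al 3840 4096 2 :=
  block_of_check (k := 8) rfl (by decide +kernel)

theorem b16 : Block F al 4096 4352 0 :=
  block_of_check (k := 8) rfl (by decide +kernel)

theorem b17 : Block F al 4352 4608 0 :=
  block_of_check (k := 8) rfl (by decide +kernel)

theorem b18 : Block F al 4608 4864 0 :=
  block_of_check (k := 8) rfl (by decide +kernel)

theorem b19 : Block F al 4864 5120 1 :=
  block_of_check (k := 8) rfl (by decide +kernel)

theorem b20 : Block F al 5120 5376 0 :=
  block_of_check (k := 8) rfl (by decide +kernel)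

theorem b21 : Block F al 5376 5632 0 :=
  block_of_check (k := 8) rfl (by decide +kernel)

theorem b22 : Block F al 5632 5888 0 :=
  block_of_check (k := 8) rfl (by decide +kernel)

theorem b23 : Block F al 5888 6144 0 :=
  block_of_check (k := 8) rfl (by decide +kernel)

theorem b24 : Block F al 6144 6400 0 :=
  block_of_check (k := 8) rfl (by decide +kernel)

theorem b25 : Block F al 6400 6656 0 :=
  block_of_check (k := 8) rfl (by decide +kernel)

theorem b26 : Block F al 6656 6912 0 :=
  block_of_check (k := 8) rfl (by decide +kernel)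

theorem b27 : Block F al 6912 7168 0 :=
  block_of_check (k := 8) rfl (by decide +kernel)

theorem b28 : Block F al 7168 7424 0 :=
  block_of_check (k := 8) rfl (by decide +kernel)

theorem b29 : Block F al 7424 7680 0 :=
  block_of_check (k := 8) rfl (by decide +kernel)

theorem b30 : Block F al 7680 7936 0 :=
  block_of_check (k := 8) rfl (by decide +kernel)

theorem b31 : Block F al 7936 8192 0 :=
  block_of_check (k := 8) rfl (by decide +kernel)

theorem b32 : Block F al 8192 8448 0 :=
  block_of_check (k := 8) rfl (by decide +kernel)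

theorem b33 : Block F al 8448 8704 0 :=
  block_of_check (k := 8) rfl (by decide +kernel)

theorem b34 : Block F al 8704 8960 0 :=
  block_of_check (k := 8) rfl (by decide +kernel)

theorem b35 : Block F al 8960 9216 0 :=
  block_of_check (k := 8) rfl (by decide +kernel)

theorem b36 : Block F al 9216 9472 0 :=
  block_of_check (k := 8) rfl (by decide +kernel)

theorem b37 : Block F al 9472 9728 0 :=
  block_of_check (k := 8) rfl (by decide +kernel)

theorem b38 : Block F al 9728 9984 0 :=
  block_of_check (k := 8) rfl (by decide +kernel)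

theorem b39 : Block F al 9984 10240 0 :=
  block_of_check (k := 8) rfl (by decide +kernel)

theorem b40 : Block F al 10240 10496 0 :=
  block_of_check (k := 8) rfl (by decide +kernel)

theorem b41 : Block F al 10496 10752 0 :=
  block_of_check (k := 8) rfl (by decide +kernel)

theorem b42 : Block F al 10752 11008 0 :=
  block_of_check (k := 8) rfl (by decide +kernel)

theorem b43 : Block F al 11008 11264 0 :=
  block_of_check (k := 8) rfl (by decide +kernel)

theorem b44 : Block F al 11264 11520 0 :=
  block_of_check (k := 8) rfl (by decide +kernel)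

theorem b45 : Block F al 11520 11776 0 :=
  block_of_check (k := 8) rfl (by decide +kernel)

theorem b46 : Block F al 11776 12032 0 :=
  block_of_check (k := 8) rfl (by decide +kernel)

theorem c0 : Block F al 0 256 250 := b0

theorem c1 : Block F al 0 512 415 :=
  block_comb c0 b1 (Nat.zero_le _) (Nat.le_of_ble_eq_true rfl) rfl

theorem c2 : Block F al 0 768 521 :=
  block_comb c1 b2 (Nat.zero_le _) (Nat.le_of_ble_eq_true rfl) rfl

theorem c3 : Block F al 0 1024 583 :=
  block_comb c2 b3 (Nat.zero_le _) (Nat.le_of_ble_eq_true rfl) rfl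

theorem c4 : Block F al 0 1280 632 :=
  block_comb c3 b4 (Nat.zero_le _) (Nat.le_of_ble_eq_true rfl) rfl

theorem c5 : Block F al 0 1536 663 :=
  block_comb c4 b5 (Nat.zero_le _) (Nat.le_of_ble_eq_true rfl) rfl

theorem c6 : Block F al 0 1792 684 :=
  block_comb c5 b6 (Nat.zero_le _) (Nat.le_of_ble_eq_true rfl) rfl

theorem c7 : Block F al 0 2048 696 :=
  block_comb c6 b7 (Nat.zero_le _) (Nat.le_of_ble_eq_true rfl) rfl

theorem c8 : Block F al 0 2304 708 :=
  block_comb c7 b8 (Nat.zero_le _) (Nat.le_of_ble_eq_true rfl) rfl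

theorem c9 : Block F al 0 2560 715 :=
  block_comb c8 b9 (Nat.zero_le _) (Nat.le_of_ble_eq_true rfl) rfl

theorem c10 : Block F al 0 2816 716 :=
  block_comb c9 b10 (Nat.zero_le _) (Nat.le_of_ble_eq_true rfl) rfl

theorem c11 : Block F al 0 3072 722 :=
  block_comb c10 b11 (Nat.zero_le _) (Nat.le_of_ble_eq_true rfl) rfl

theorem c12 : Block F al 0 3328 724 :=
  block_comb c11 b12 (Nat.zero_le _) (Nat.le_of_ble_eq_true rfl) rfl

theorem c13 : Block F al 0 3584 724 :=
  block_comb c12 b13 (Nat.zero_le _) (Nat.le_of_ble_eq_true rfl) rfl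

theorem c14 : Block F al 0 3840 725 :=
  block_comb c13 b14 (Nat.zero_le _) (Nat.le_of_ble_eq_true rfl) rfl

theorem c15 : Block F al 0 4096 727 :=
  block_comb c14 b15 (Nat.zero_le _) (Nat.le_of_ble_eq_true rfl) rfl

theorem c16 : Block F al 0 4352 727 :=
  block_comb c15 b16 (Nat.zero_le _) (Nat.le_of_ble_eq_true rfl) rfl

theorem c17 : Block F al 0 4608 727 :=
  block_comb c16 b17 (Nat.zero_le _) (Nat.le_of_ble_eq_true rfl) rfl

theorem c18 : Block F al 0 4864 727 :=
  block_comb c17 b18 (Nat.zero_le _) (Nat.le_of_ble_eq_true rfl) rfl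

theorem c19 : Block F al 0 5120 728 :=
  block_comb c18 b19 (Nat.zero_le _) (Nat.le_of_ble_eq_true rfl) rfl

theorem c20 : Block F al 0 5376 728 :=
  block_comb c19 b20 (Nat.zero_le _) (Nat.le_of_ble_eq_true rfl) rfl

theorem c21 : Block F al 0 5632 728 :=
  block_comb c20 b21 (Nat.zero_le _) (Nat.le_of_ble_eq_true rfl) rfl

theorem c22 : Block F al 0 5888 728 :=
  block_comb c21 b22 (Nat.zero_le _) (Nat.le_of_ble_eq_true rfl) rfl

theorem c23 : Block F al 0 6144 728 :=
  block_comb c22 b23 (Nat.zero_le _) (Nat.le_of_ble_eq_true rfl) rfl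

theorem c24 : Block F al 0 6400 728 :=
  block_comb c23 b24 (Nat.zero_le _) (Nat.le_of_ble_eq_true rfl) rfl

theorem c25 : Block F al 0 6656 728 :=
  block_comb c24 b25 (Nat.zero_le _) (Nat.le_of_ble_eq_true rfl) rfl

theorem c26 : Block F al 0 6912 728 :=
  block_comb c25 b26 (Nat.zero_le _) (Nat.le_of_ble_eq_true rfl) rfl

theorem c27 : Block F al 0 7168 728 :=
  block_comb c26 b27 (Nat.zero_le _) (Nat.le_of_ble_eq_true rfl) rfl

theorem c28 : Block F al 0 7424 728 :=
  block_comb c27 b28 (Nat.zero_le _) (Nat.le_of_ble_eq_true rfl) rfl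

theorem c29 : Block F al 0 7680 728 :=
  block_comb c28 b29 (Nat.zero_le _) (Nat.le_of_ble_eq_true rfl) rfl

theorem c30 : Block F al 0 7936 728 :=
  block_comb c29 b30 (Nat.zero_le _) (Nat.le_of_ble_eq_true rfl) rfl

theorem c31 : Block F al 0 8192 728 :=
  block_comb c30 b31 (Nat.zero_le _) (Nat.le_of_ble_eq_true rfl) rfl

theorem c32 : Block F al 0 8448 728 :=
  block_comb c31 b32 (Nat.zero_le _) (Nat.le_of_ble_eq_true rfl) rfl

theorem c33 : Block F al 0 8704 728 :=
  block_comb c32 b33 (Nat.zero_le _) (Nat.le_of_ble_eq_true rfl) rfl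

theorem c34 : Block F al 0 8960 728 :=
  block_comb c33 b34 (Nat.zero_le _) (Nat.le_of_ble_eq_true rfl) rfl

theorem c35 : Block F al 0 9216 728 :=
  block_comb c34 b35 (Nat.zero_le _) (Nat.le_of_ble_eq_true rfl) rfl

theorem c36 : Block F al 0 9472 728 :=
  block_comb c35 b36 (Nat.zero_le _) (Nat.le_of_ble_eq_true rfl) rfl

theorem c37 : Block F al 0 9728 728 :=
  block_comb c36 b37 (Nat.zero_le _) (Nat.le_of_ble_eq_true rfl) rfl

theorem c38 : Block F al 0 9984 728 :=
  block_comb c37 b38 (Nat.zero_le _) (Nat.le_of_ble_eq_true rfl) rfl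

theorem c39 : Block F al 0 10240 728 :=
  block_comb c38 b39 (Nat.zero_le _) (Nat.le_of_ble_eq_true rfl) rfl

theorem c40 : Block F al 0 10496 728 :=
  block_comb c39 b40 (Nat.zero_le _) (Nat.le_of_ble_eq_true rfl) rfl

theorem c41 : Block F al 0 10752 728 :=
  block_comb c40 b41 (Nat.zero_le _) (Nat.le_of_ble_eq_true rfl) rfl

theorem c42 : Block F al 0 11008 728 :=
  block_comb c41 b42 (Nat.zero_le _) (Nat.le_of_ble_eq_true rfl) rfl

theorem c43 : Block F al 0 11264 728 :=
  block_comb c42 b43 (Nat.zero_le _) (Nat.le_of_ble_eq_true rfl) rfl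

theorem c44 : Block F al 0 11520 728 :=
  block_comb c43 b44 (Nat.zero_le _) (Nat.le_of_ble_eq_true rfl) rfl

theorem c45 : Block F al 0 11776 728 :=
  block_comb c44 b45 (Nat.zero_le _) (Nat.le_of_ble_eq_true rfl) rfl

theorem c46 : Block F al 0 12032 728 :=
  block_comb c45 b46 (Nat.zero_le _) (Nat.le_of_ble_eq_true rfl) rfl

end Cfsg.Agent.TcChain36.Fi23.Y232
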